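import Groth.Agent.H10Coh.ExtMap

/-!
# Naturality of the maps on Ext groups in the exact functor
-/

set_option autoImplicit false

universe w₁ w₂ w₃ v₁ v₂ v₃ u₁ u₂ u₃

open CategoryTheory CategoryTheory.Limits Abelian Groth.Agent.H10Coh

namespace Groth.Agent.H18Ext

variable {A : Type u₁} [Category.{v₁} A] [Abelian A] [HasExt.{w₁} A] [EnoughInjectives A]
variable {B : Type u₂} [Category.{v₂} B] [Abelian B] [HasExt.{w₂} B]
variable {C : Type u₃} [Category.{v₃} C] [Abelian C] [HasExt.{w₃} C]
variable (G : A ⥤ B) [G.Additive] [PreservesFiniteLimits G] [PreservesFiniteColimits G]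
variable (H : B ⥤ C) [H.Additive] [PreservesFiniteLimits H] [PreservesFiniteColimits H]
variable (K : A ⥤ C) [K.Additive] [PreservesFiniteLimits K] [PreservesFiniteColimits K]
variable (e : G ⋙ H ⟶ K)

/-- Compatibility of the maps on Ext with a natural transformation `G ⋙ H ⟶ K` of exact functors. -/
theorem mapExactFunctor_natTrans (X : A) (n : ℕ) : ∀ (Y : A) (x : Ext.{w₁} X Y n),
    ((x.mapExactFunctor G).mapExactFunctor H).comp (Ext.mk₀ (e.app Y)) (add_zero n) =
      (Ext.mk₀ (e.app X)).comp (x.mapExactFunctor K) (zero_add n) := by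
  induction n with
  | zero =>
    intro Y x
    obtain ⟨φ, rfl⟩ := (Ext.mk₀_bijective X Y).2 x
    simp only [Ext.mapExactFunctor_mk₀, Ext.mk₀_comp_mk₀]
    exact congrArg Ext.mk₀ (e.naturality φ)
  | succ n ih =>
    intro Y x
    have hS := injSeq_shortExact Y
    obtain ⟨q, rfl⟩ : ∃ q : Ext X (injSeq Y).X₃ n, q.comp hS.extClass rfl = x :=
      Ext.covariant_sequence_exact₁ X hS x (Ext.eq_zero_of_injective _) rfl
    let φ : ((injSeq Y).map G).map H ⟶ (injSeq Y).map K :=
      ShortComplex.homMk (e.app _) (e.app _) (e.app _) (e.naturality _).symm (e.naturality _).symm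
    have hn := ShortComplex.ShortExact.extClass_naturality ((hS.map_of_exact G).map_of_exact H)
      (hS.map_of_exact K) φ
    simp only [Ext.mapExactFunctor_comp, Ext.mapExactFunctor_extClass]
    rw [Ext.comp_assoc_of_third_deg_zero]
    erw [Ext.mapExactFunctor_extClass, hn]
    erw [← Ext.comp_assoc_of_second_deg_zero]
    erw [ih]
    exact Ext.comp_assoc _ _ _ (zero_add n) rfl (by omega)

end Groth.Agent.H18Ext
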