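import Mathlib.CategoryTheory.Abelian.RightDerived
import Mathlib.CategoryTheory.Abelian.Injective.Resolution
import Mathlib.Algebra.Homology.QuasiIso
import Mathlib.CategoryTheory.ObjectProperty.Basic

/-!
# Objects of an adapted class are acyclic for the right derived functors
-/

set_option autoImplicit false

universe v u v' u'

open CategoryTheory CategoryTheory.Limits

namespace Groth.Agent.H18Ext.AdaptedClass

set_option backward.isDefEq.respectTransparency false

variable {A : Type u} [Category.{v} A] [Abelian A]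

variable (A) in
/-- A sequence of spliced short exact sequences. -/
structure Seq where
  /-- The cycles. -/
  Z : ℕ → A
  /-- The terms. -/
  M : ℕ → A
  /-- The inclusions. -/
  ι : ∀ n, Z n ⟶ M n
  /-- The projections. -/
  π : ∀ n, M n ⟶ Z (n + 1)
  w : ∀ n, ι n ≫ π n = 0
  shortExact : ∀ n, (ShortComplex.mk (ι n) (π n) (w n)).ShortExact

namespace Seq

variable (S : Seq A)

/-- The spliced complex. -/
noncomputable def cx : CochainComplex A ℕ :=
  CochainComplex.of S.M (fun n => S.π n ≫ S.ι (n + 1))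
    (fun n => by rw [Category.assoc, ← Category.assoc (S.ι (n + 1)), S.w, zero_comp, comp_zero])

theorem cx_d (n : ℕ) : S.cx.d n (n + 1) = S.π n ≫ S.ι (n + 1) := by
  simp [cx]

theorem exact_ι_d (n : ℕ) :
    (ShortComplex.mk (S.ι n) (S.π n ≫ S.ι (n + 1)) (by rw [← Category.assoc, S.w, zero_comp])).Exact := by
  haveI := (S.shortExact (n + 1)).mono_f
  let φ : ShortComplex.mk (S.ι n) (S.π n) (S.w n) ⟶
      ShortComplex.mk (S.ι n) (S.π n ≫ S.ι (n + 1)) (by rw [← Category.assoc, S.w, zero_comp]) :=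
    { τ₁ := 𝟙 _, τ₂ := 𝟙 _, τ₃ := S.ι (n + 1) }
  haveI : Epi φ.τ₁ := inferInstanceAs (Epi (𝟙 _))
  haveI : IsIso φ.τ₂ := inferInstanceAs (IsIso (𝟙 _))
  haveI : Mono φ.τ₃ := inferInstanceAs (Mono (S.ι (n + 1)))
  exact (ShortComplex.exact_iff_of_epi_of_isIso_of_mono φ).1 (S.shortExact n).exact

theorem exactAt_succ (n : ℕ) : S.cx.ExactAt (n + 1) := by
  rw [HomologicalComplex.exactAt_iff' _ n (n + 1) (n + 1 + 1) (by simp) (by simp)]
  haveI := (S.shortExact n).epi_g
  let φ : S.cx.sc' n (n + 1) (n + 1 + 1) ⟶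
      ShortComplex.mk (S.ι (n + 1)) (S.π (n + 1) ≫ S.ι (n + 1 + 1)) (by rw [← Category.assoc, S.w, zero_comp]) :=
    { τ₁ := S.π n, τ₂ := 𝟙 _, τ₃ := 𝟙 _
      comm₁₂ := by
        show S.π n ≫ S.ι (n + 1) = S.cx.d n (n + 1) ≫ 𝟙 _
        rw [cx_d]; exact (Category.comp_id _).symm
      comm₂₃ := by
        show 𝟙 _ ≫ S.π (n + 1) ≫ S.ι (n + 1 + 1) = S.cx.d (n + 1) (n + 1 + 1) ≫ 𝟙 _
        rw [cx_d]; exact (Category.id_comp _).trans (Category.comp_id _).symm }
  haveI : Epi φ.τ₁ := inferInstanceAs (Epi (S.π n))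
  haveI : IsIso φ.τ₂ := inferInstanceAs (IsIso (𝟙 _))
  haveI : Mono φ.τ₃ := inferInstanceAs (Mono (𝟙 _))
  exact (ShortComplex.exact_iff_of_epi_of_isIso_of_mono φ).2 (S.exact_ι_d (n + 1))

theorem exactAt_zero (h : IsZero (S.Z 0)) : S.cx.ExactAt 0 := by
  rw [HomologicalComplex.exactAt_iff' _ 0 0 1 (by simp) (by simp),
    ShortComplex.exact_iff_mono _ (S.cx.shape 0 0 (by simp))]
  show Mono (S.cx.d 0 (0 + 1))
  rw [cx_d]
  haveI := (S.shortExact 1).mono_f
  haveI : Mono (S.π 0) := ((S.shortExact 0).exact.mono_g_iff).2 (h.eq_of_src _ _)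
  exact inferInstanceAs (Mono (S.π 0 ≫ S.ι 1))

/-- A spliced sequence with injective terms is an injective resolution. -/
noncomputable def toResolution (hS : ∀ n, Injective (S.M n)) : InjectiveResolution (S.Z 0) where
  cocomplex := S.cx
  injective := hS
  ι := (CochainComplex.fromSingle₀Equiv _ _).symm ⟨S.ι 0, by
    rw [cx_d, ← Category.assoc, S.w, zero_comp]⟩
  quasiIso := ⟨fun n => by
    cases n
    · rw [CochainComplex.quasiIsoAt₀_iff, ShortComplex.quasiIso_iff_of_zeros]
      · refine (ShortComplex.exact_and_mono_f_iff_of_iso ?_).2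
          ⟨S.exact_ι_d 0, (S.shortExact 0).mono_f⟩
        refine ShortComplex.isoMk (Iso.refl _) (Iso.refl _) (Iso.refl _) ?_ ?_
        · simp
        · exact (Category.id_comp _).trans ((S.cx_d 0).symm.trans (Category.comp_id _).symm)
      all_goals rfl
    · rw [quasiIsoAt_iff_exactAt]
      · apply exactAt_succ
      · apply CochainComplex.exactAt_succ_single_obj⟩

end Seq

variable [EnoughInjectives A] (𝒪 : ObjectProperty A)

/-- A stage of the comparison. -/
structure St where
  /-- Cycles of the injective resolution. -/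
  Z : A
  /-- Cycles of the resolution in the class. -/
  Q : A
  /-- The map to the class resolution. -/
  a : Z ⟶ Q
  /-- The retraction. -/
  b : Q ⟶ Z
  hab : a ≫ b = 𝟙 Z

variable {𝒪} (h2 : ∀ X : A, ∃ (Y : A) (i : X ⟶ Y), 𝒪 Y ∧ Mono i) (s : St (A := A))

/-- The term in the class. -/
noncomputable def St.J : A := (h2 (pushout (Injective.ι s.Z) s.a)).choose

/-- The embedding of the pushout. -/
noncomputable def St.e : pushout (Injective.ι s.Z) s.a ⟶ s.J h2 := (h2 _).choose_spec.choose

theorem St.mem : 𝒪 (s.J h2) := (h2 (pushout (Injective.ι s.Z) s.a)).choose_spec.choose_spec.1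

instance St.mono_e : Mono (s.e h2) := (h2 (pushout (Injective.ι s.Z) s.a)).choose_spec.choose_spec.2

/-- The inclusion of the cycles. -/
noncomputable def St.i : s.Q ⟶ s.J h2 := pushout.inr _ _ ≫ s.e h2

instance St.mono_i : Mono (s.i h2) := mono_comp _ _

/-- The comparison map. -/
noncomputable def St.φ : Injective.under s.Z ⟶ s.J h2 := pushout.inl _ _ ≫ s.e h2

/-- The retraction of the comparison map. -/
noncomputable def St.ψ : s.J h2 ⟶ Injective.under s.Z :=
  Injective.factorThru (pushout.desc (𝟙 _) (s.b ≫ Injective.ι s.Z)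
    (by rw [← Category.assoc, s.hab, Category.id_comp, Category.comp_id])) (s.e h2)

theorem St.φ_ψ : s.φ h2 ≫ s.ψ h2 = 𝟙 _ := by
  rw [St.φ, St.ψ, Category.assoc, Injective.comp_factorThru, pushout.inl_desc]

theorem St.i_ψ : s.i h2 ≫ s.ψ h2 = s.b ≫ Injective.ι s.Z := by
  rw [St.i, St.ψ, Category.assoc, Injective.comp_factorThru, pushout.inr_desc]

theorem St.ι_φ : Injective.ι s.Z ≫ s.φ h2 = s.a ≫ s.i h2 := by
  rw [St.φ, St.i, ← Category.assoc, pushout.condition, Category.assoc]

/-- The next stage. -/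
noncomputable def St.next : St (A := A) where
  Z := cokernel (Injective.ι s.Z)
  Q := cokernel (s.i h2)
  a := cokernel.map _ _ s.a (s.φ h2) (s.ι_φ h2)
  b := cokernel.map _ _ s.b (s.ψ h2) (s.i_ψ h2)
  hab := by
    ext
    simp only [coequalizer_as_cokernel, cokernel.π_desc_assoc, Category.assoc, cokernel.π_desc, Category.comp_id]
    rw [← Category.assoc, s.φ_ψ h2, Category.id_comp]

variable (X : A)

/-- The stages. -/
noncomputable def stage : ℕ → St (A := A)
  | 0 => ⟨X, X, 𝟙 X, 𝟙 X, Category.id_comp _⟩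
  | n + 1 => (stage n).next h2

/-- The injective resolution. -/
noncomputable def seqI : Seq A where
  Z n := (stage h2 X n).Z
  M n := Injective.under (stage h2 X n).Z
  ι n := Injective.ι _
  π n := cokernel.π (Injective.ι (stage h2 X n).Z)
  w n := cokernel.condition (Injective.ι (stage h2 X n).Z)
  shortExact n := ShortComplex.ShortExact.mk' (ShortComplex.exact_of_g_is_cokernel _ (cokernelIsCokernel _))
    (inferInstanceAs (Mono (Injective.ι _))) (inferInstanceAs (Epi (cokernel.π (Injective.ι (stage h2 X n).Z))))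

/-- The resolution in the class. -/
noncomputable def seqJ : Seq A where
  Z n := (stage h2 X n).Q
  M n := (stage h2 X n).J h2
  ι n := (stage h2 X n).i h2
  π n := cokernel.π ((stage h2 X n).i h2)
  w n := cokernel.condition ((stage h2 X n).i h2)
  shortExact n := ShortComplex.ShortExact.mk' (ShortComplex.exact_of_g_is_cokernel _ (cokernelIsCokernel _))
    (inferInstanceAs (Mono ((stage h2 X n).i h2))) (inferInstanceAs (Epi (cokernel.π ((stage h2 X n).i h2))))

open scoped ZeroObject in
/-- The augmented resolution in the class. -/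
noncomputable def seqK : Seq A where
  Z | 0 => 0
    | n + 1 => (seqJ h2 X).Z n
  M | 0 => X
    | n + 1 => (seqJ h2 X).M n
  ι | 0 => 0
    | n + 1 => (seqJ h2 X).ι n
  π | 0 => 𝟙 X
    | n + 1 => (seqJ h2 X).π n
  w | 0 => zero_comp
    | n + 1 => (seqJ h2 X).w n
  shortExact
    | 0 => ShortComplex.ShortExact.mk' ((ShortComplex.exact_iff_mono _ rfl).2 (inferInstanceAs (Mono (𝟙 X))))
        ⟨fun _ _ _ => (isZero_zero A).eq_of_tgt _ _⟩ (inferInstanceAs (Epi (𝟙 X)))
    | n + 1 => (seqJ h2 X).shortExact n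

/-- The comparison map of complexes. -/
noncomputable def phi : (seqI h2 X).cx ⟶ (seqJ h2 X).cx where
  f n := (stage h2 X n).φ h2
  comm' i j h := by
    obtain rfl : i + 1 = j := h
    rw [Seq.cx_d, Seq.cx_d]
    show (stage h2 X i).φ h2 ≫ cokernel.π _ ≫ (stage h2 X (i + 1)).i h2 =
      (cokernel.π _ ≫ Injective.ι _) ≫ (stage h2 X (i + 1)).φ h2
    rw [Category.assoc]
    refine Eq.trans ?_ (congrArg (_ ≫ ·) ((stage h2 X (i + 1)).ι_φ h2)).symm
    exact ((cokernel.π_desc_assoc _ _ _ _).trans (Category.assoc _ _ _)).symm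

/-- The retraction of complexes. -/
noncomputable def psi : (seqJ h2 X).cx ⟶ (seqI h2 X).cx where
  f n := (stage h2 X n).ψ h2
  comm' i j h := by
    obtain rfl : i + 1 = j := h
    rw [Seq.cx_d, Seq.cx_d]
    show (stage h2 X i).ψ h2 ≫ cokernel.π _ ≫ Injective.ι _ =
      (cokernel.π _ ≫ (stage h2 X (i + 1)).i h2) ≫ (stage h2 X (i + 1)).ψ h2
    rw [Category.assoc]
    refine Eq.trans ?_ (congrArg (_ ≫ ·) ((stage h2 X (i + 1)).i_ψ h2)).symm
    exact ((cokernel.π_desc_assoc _ _ _ _).trans (Category.assoc _ _ _)).symm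

theorem phi_psi : phi h2 X ≫ psi h2 X = 𝟙 _ := by
  ext n
  exact (stage h2 X n).φ_ψ h2

include h2 in
theorem isZero_rightDerived {B : Type u'} [Category.{v'} B] [Abelian B] (f : A ⥤ B) [f.Additive]
    (h1 : ∀ K : CochainComplex A ℕ, (∀ i, 𝒪 (K.X i)) → K.Acyclic →
      ((f.mapHomologicalComplex (ComplexShape.up ℕ)).obj K).Acyclic)
    (hX : 𝒪 X) (n : ℕ) : IsZero ((f.rightDerived (n + 1)).obj X) := by
  let R : InjectiveResolution X := (seqI h2 X).toResolution fun _ => inferInstanceAs (Injective (Injective.under _))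
  let F := f.mapHomologicalComplex (ComplexShape.up ℕ)
  refine IsZero.of_iso ?_ (R.isoRightDerivedObj f (n + 1))
  have hK : (F.obj (seqK h2 X).cx).ExactAt (n + 1 + 1) := h1 _ (fun i => by
      cases i
      · exact hX
      · exact St.mem h2 _) (fun i => by
      cases i
      · exact (seqK h2 X).exactAt_zero (isZero_zero A)
      · exact (seqK h2 X).exactAt_succ _) _
  have hJ : (F.obj (seqJ h2 X).cx).ExactAt (n + 1) := by
    rw [HomologicalComplex.exactAt_iff' _ (n + 1) (n + 1 + 1) (n + 1 + 1 + 1) (by simp) (by simp)] at hK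
    rw [HomologicalComplex.exactAt_iff' _ n (n + 1) (n + 1 + 1) (by simp) (by simp)]
    refine ShortComplex.exact_of_iso ?_ hK
    exact ShortComplex.isoMk (Iso.refl _) (Iso.refl _) (Iso.refl _)
      ((Category.id_comp _).trans ((congrArg f.map (((seqJ h2 X).cx_d n).trans ((seqK h2 X).cx_d (n + 1)).symm)).trans
        (Category.comp_id _).symm))
      ((Category.id_comp _).trans ((congrArg f.map (((seqJ h2 X).cx_d (n + 1)).trans ((seqK h2 X).cx_d (n + 1 + 1)).symm)).trans
        (Category.comp_id _).symm))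
  rw [HomologicalComplex.exactAt_iff_isZero_homology] at hJ
  rw [IsZero.iff_id_eq_zero]
  let H := F ⋙ HomologicalComplex.homologyFunctor B (ComplexShape.up ℕ) (n + 1)
  have e : H.map (phi h2 X) ≫ H.map (psi h2 X) = 𝟙 _ := by
    rw [← H.map_comp, phi_psi]
    exact H.map_id _
  exact e.symm.trans ((congrArg (· ≫ H.map (psi h2 X)) (hJ.eq_of_tgt (H.map (phi h2 X)) 0)).trans zero_comp)

end Groth.Agent.H18Ext.AdaptedClass
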