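import Groth.Agent.H10Coh.ExtMap
import Groth.Agent.H10Coh.DerivedShift

/-!
# Ext groups and right adjoints of exact functors on acyclic objects
-/

set_option autoImplicit false

universe w w' v v' u u'

open CategoryTheory CategoryTheory.Limits Abelian Groth.Agent.H10Coh

namespace Groth.Agent.H18Ext

variable {D : Type u} [Category.{v} D] [Abelian D] [HasExt.{w} D]
variable {C : Type u'} [Category.{v'} C] [Abelian C] [HasExt.{w'} C] [EnoughInjectives C]
variable (L : D ⥤ C) (R : C ⥤ D) (adj : L ⊣ R)
variable [L.Additive] [PreservesFiniteLimits L] [PreservesFiniteColimits L] [R.Additive] [PreservesFiniteLimits R]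
variable {A : D} {A' : C} (e : A' ⟶ L.obj A)

/-- `Ext^n(A, R F) ⟶ Ext^n(A', F)`: apply `L` and compose with the counit. -/
noncomputable def psi (F : C) (n : ℕ) : Ext.{w} A (R.obj F) n →+ Ext.{w'} A' F n :=
  ((Ext.mk₀ (adj.counit.app F)).postcomp A' (add_zero n)).comp (extMap L e (R.obj F) n)

omit [EnoughInjectives C] [R.Additive] [PreservesFiniteLimits R] in
theorem psi_apply (F : C) (n : ℕ) (x : Ext.{w} A (R.obj F) n) :
    psi L R adj e F n x = (extMap L e (R.obj F) n x).comp (Ext.mk₀ (adj.counit.app F)) (add_zero n) := rfl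

omit [EnoughInjectives C] [R.Additive] [PreservesFiniteLimits R] in
theorem psi_naturality {F F' : C} (g : F ⟶ F') (n : ℕ) (x : Ext.{w} A (R.obj F) n) :
    psi L R adj e F' n (x.comp (Ext.mk₀ (R.map g)) (add_zero n)) =
      (psi L R adj e F n x).comp (Ext.mk₀ g) (add_zero n) := by
  rw [psi_apply, psi_apply, extMap_naturality, Ext.comp_assoc_of_second_deg_zero,
    Ext.comp_assoc_of_second_deg_zero, Ext.mk₀_comp_mk₀, Ext.mk₀_comp_mk₀]
  exact congrArg (fun t => (extMap L e (R.obj F) n x).comp (Ext.mk₀ t) (add_zero n))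
    (adj.counit.naturality g)

omit [EnoughInjectives C] [PreservesFiniteLimits R] in
theorem psi_extClass {S : ShortComplex C} (hS : S.ShortExact) (hS' : (S.map R).ShortExact) (n : ℕ)
    (x : Ext.{w} A (R.obj S.X₃) n) :
    psi L R adj e S.X₁ (n + 1) (x.comp hS'.extClass rfl) = (psi L R adj e S.X₃ n x).comp hS.extClass rfl := by
  have h := extMap_extClass L e hS' n x
  let φ : (S.map R).map L ⟶ S :=
    ShortComplex.homMk (adj.counit.app S.X₁) (adj.counit.app S.X₂) (adj.counit.app S.X₃)
      (adj.counit.naturality S.f).symm (adj.counit.naturality S.g).symm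
  have hn := ShortComplex.ShortExact.extClass_naturality (hS'.map_of_exact L) hS φ
  rw [psi_apply, psi_apply]
  erw [h]
  rw [Ext.comp_assoc_of_second_deg_zero]
  erw [Ext.comp_assoc_of_third_deg_zero, hn]
  rfl

/-- On `R`-acyclic objects the comparison `Ext^n(A, R F) ⟶ Ext^n(A', F)` is bijective. -/
theorem psi_bijective [IsIso e] (n : ℕ) (F : C) (hF : H16Derived.AcyclicLES.IsAcyclic R F) :
    Function.Bijective (psi L R adj e F n) := by
  induction n generalizing F with
  | zero =>
    have : ⇑(psi L R adj e F 0) ∘ Ext.mk₀ =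
        Ext.mk₀ ∘ fun φ : A ⟶ R.obj F => e ≫ (adj.homEquiv A F).symm φ := by
      ext φ
      simp only [Function.comp_apply, psi_apply, extMap_mk₀, Ext.mk₀_comp_mk₀, Category.assoc,
        Adjunction.homEquiv_counit]
    have hb : Function.Bijective fun φ : A ⟶ R.obj F => e ≫ (adj.homEquiv A F).symm φ := by
      refine ⟨fun a b h => (adj.homEquiv A F).symm.injective ((cancel_epi e).1 h), fun t => ?_⟩
      exact ⟨adj.homEquiv A F (inv e ≫ t), by simp⟩
    exact (Function.Bijective.of_comp_iff _ (Ext.mk₀_bijective A (R.obj F))).1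
      (this ▸ (Ext.mk₀_bijective _ _).comp hb)
  | succ n ih =>
    have hS := injSeq_shortExact F
    have hI : H16Derived.AcyclicLES.IsAcyclic R (injSeq F).X₂ :=
      H16Derived.AcyclicLES.isAcyclic_of_injective R _
    have hepi : Epi (R.map (injSeq F).g) :=
      Preadditive.epi_of_isZero_cokernel _ ((hF 1 one_pos).of_iso (nonempty_rightDerived_one R hS hI).some.symm)
    have hS' : ((injSeq F).map R).ShortExact := by
      have h30 : PreservesFiniteLimits R ↔ ∀ (S : ShortComplex C), S.ShortExact → (S.map R).Exact ∧ Mono (R.map S.f) :=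
        (Functor.preservesFiniteLimits_tfae R).out 3 0
      have ht := h30.1 ‹_› (injSeq F) hS
      exact { exact := ht.1, mono_f := ht.2, epi_g := hepi }
    have hQ : H16Derived.AcyclicLES.IsAcyclic R (injSeq F).X₃ := fun i hi => by
      obtain ⟨m, rfl⟩ := Nat.exists_eq_succ_of_ne_zero hi.ne'
      exact (hF (m + 2) (Nat.succ_pos _)).of_iso (nonempty_rightDerived_shift R hS hI m).some.symm
    haveI : L.PreservesMonomorphisms := inferInstance
    haveI : Injective (R.obj (injSeq F).X₂) := adj.map_injective _ inferInstance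
    haveI : Subsingleton (Ext.{w} A ((injSeq F).map R).X₂ (n + 1)) :=
      subsingleton_of_forall_eq 0 fun x => Ext.eq_zero_of_injective (I := R.obj (injSeq F).X₂) x
    constructor
    · rw [injective_iff_map_eq_zero]
      intro x hx
      obtain ⟨q, rfl⟩ : ∃ q : Ext A ((injSeq F).map R).X₃ n, q.comp hS'.extClass rfl = x :=
        exists_extClass_lift hS' x
      have hx' : (psi L R adj e (injSeq F).X₃ n q).comp hS.extClass rfl = 0 := by
        rw [← psi_extClass L R adj e hS hS']; exact hx
      obtain ⟨j, hj⟩ := Ext.covariant_sequence_exact₃ A' hS _ rfl hx'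
      obtain ⟨j₀, hj₀⟩ := (ih (injSeq F).X₂ hI).2 j
      have : q = j₀.comp (Ext.mk₀ (R.map (injSeq F).g)) (add_zero n) := by
        apply (ih _ hQ).1
        rw [psi_naturality, hj₀]
        exact hj.symm
      rw [this]
      erw [Ext.comp_assoc_of_second_deg_zero, hS'.comp_extClass, Ext.comp_zero]
      rfl
    · intro y
      obtain ⟨q', hq'⟩ : ∃ q', (q' : Ext A' (injSeq F).X₃ n).comp hS.extClass rfl = y :=
        Ext.covariant_sequence_exact₁ A' hS y (Ext.eq_zero_of_injective _) rfl
      obtain ⟨q, hq⟩ := (ih (injSeq F).X₃ hQ).2 q'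
      refine ⟨q.comp hS'.extClass rfl, ?_⟩
      rw [← hq', ← hq]
      exact psi_extClass L R adj e hS hS' n q

end Groth.Agent.H18Ext
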