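import Groth.Agent.H18Ext.DeltaIso
import Mathlib.Algebra.Category.Grp.Ulift
import Mathlib.Algebra.Category.Grp.FilteredColimits
import Mathlib.Algebra.Category.Grp.Colimits
import Mathlib.Algebra.Module.CharacterModule
import Mathlib.CategoryTheory.Limits.Filtered

/-!
# Morphisms of delta-functors commuting with filtered colimits
-/

set_option autoImplicit false

universe w v u

open CategoryTheory CategoryTheory.Limits

namespace Groth.Agent.H18Ext.DeltaColimit

variable {J : Type v} [SmallCategory J] [IsFiltered J] {K : J ⥤ AddCommGrpCat.{w}} {c : Cocone K}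

theorem exists_rep (hc : IsColimit c) (y : c.pt) : ∃ j x, c.ι.app j x = y := by
  let H : AddSubgroup c.pt := ⨆ j, (c.ι.app j).hom.range
  let q : c.pt ⟶ AddCommGrpCat.of (c.pt ⧸ H) := AddCommGrpCat.ofHom (QuotientAddGroup.mk' H)
  have hq : q = 0 := hc.hom_ext fun j => by
    rw [comp_zero]
    ext x
    exact (QuotientAddGroup.eq_zero_iff _).2 (AddSubgroup.mem_iSup_of_mem j ⟨x, rfl⟩)
  have hy : y ∈ H := (QuotientAddGroup.eq_zero_iff _).1 (show q y = 0 by rw [hq]; rfl)
  haveI : Nonempty J := IsFiltered.nonempty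
  let Hs : J → AddSubgroup c.pt := fun j => (c.ι.app j).hom.range
  have hdir : Directed (fun a b : AddSubgroup c.pt => a ≤ b) Hs := fun i j =>
    ⟨IsFiltered.max i j, by
      rintro z ⟨x, rfl⟩
      exact ⟨K.map (IsFiltered.leftToMax i j) x, ConcreteCategory.congr_hom (c.w (IsFiltered.leftToMax i j)) x⟩, by
      rintro z ⟨x, rfl⟩
      exact ⟨K.map (IsFiltered.rightToMax i j) x, ConcreteCategory.congr_hom (c.w (IsFiltered.rightToMax i j)) x⟩⟩
  obtain ⟨j, x, hx⟩ := (AddSubgroup.mem_iSup_of_directed hdir).1 hy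
  exact ⟨j, x, hx⟩

theorem eq_zero (hc : IsColimit c) {j : J} (x : K.obj j) (h : c.ι.app j x = 0) :
    ∃ (k : J) (f : j ⟶ k), K.map f x = 0 := by
  let K' := K ⋙ AddCommGrpCat.uliftFunctor.{v, w}
  let y := colimit.ι K' j (ULift.up x)
  by_cases hy : y = 0
  · haveI : PreservesFilteredColimitsOfSize.{v, v} (forget AddCommGrpCat.{max w v}) :=
      preservesFilteredColimitsOfSize_shrink.{v, max w v, v, max w v} _
    obtain ⟨k, f, g, hfg⟩ := (Concrete.colimit_rep_eq_iff_exists K' (i := j) (j := j) (ULift.up x) 0).1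
      (hy.trans (map_zero _).symm)
    refine ⟨k, f, ?_⟩
    have := congrArg ULift.down hfg
    rw [map_zero] at this
    exact this
  · obtain ⟨χ, hχ⟩ := CharacterModule.exists_character_apply_ne_zero_of_ne_zero hy
    let t : Cocone K :=
      { pt := AddCommGrpCat.of (ULift.{w} (AddCircle (1 : ℚ)))
        ι :=
          { app := fun i => AddCommGrpCat.ofHom
              (AddMonoidHom.mk' (fun z => ULift.up (χ (colimit.ι K' i (ULift.up z))))
                (fun a b => ULift.ext _ _ ((congrArg χ ((congrArg (colimit.ι K' i) (rfl : ULift.up (a + b) =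
                  (ULift.up a + ULift.up b : ULift (K.obj i)))).trans (map_add _ _ _))).trans (map_add χ _ _))))
            naturality := fun i k f => by
              ext z
              exact ULift.ext _ _ (congrArg χ (ConcreteCategory.congr_hom (colimit.w K' f) (ULift.up z))) } }
    refine absurd ?_ hχ
    have := ConcreteCategory.congr_hom (hc.fac t j) x
    rw [ConcreteCategory.comp_apply, h, map_zero] at this
    exact (congrArg ULift.down this).symm

theorem injective_of_forall {C : Type u} [Category.{v} C] {F G : C ⥤ AddCommGrpCat.{w}} (φ : F ⟶ G)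
    [PreservesFilteredColimitsOfSize.{v, v} F] [PreservesFilteredColimitsOfSize.{v, v} G]
    {K : J ⥤ C} {c : Cocone K} (hc : IsColimit c) (h : ∀ j, Function.Injective (φ.app (K.obj j))) :
    Function.Injective (φ.app c.pt) := by
  rw [injective_iff_map_eq_zero]
  intro a ha
  obtain ⟨j, x, rfl⟩ := exists_rep (isColimitOfPreserves F hc) a
  have hx : G.map (c.ι.app j) (φ.app (K.obj j) x) = 0 :=
    (NatTrans.naturality_apply φ (c.ι.app j) x).symm.trans ha
  obtain ⟨k, f, hk⟩ := eq_zero (isColimitOfPreserves G hc) (φ.app (K.obj j) x) hx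
  have : F.map (K.map f) x = 0 := h k (((NatTrans.naturality_apply φ (K.map f) x).trans hk).trans (map_zero _).symm)
  have e : F.map (c.ι.app j) x = F.map (c.ι.app k) (F.map (K.map f) x) := by
    rw [← ConcreteCategory.comp_apply, ← Functor.map_comp, c.w f]
  exact e.trans (by rw [this, map_zero])

theorem surjective_of_forall {C : Type u} [Category.{v} C] {F G : C ⥤ AddCommGrpCat.{w}} (φ : F ⟶ G)
    [PreservesFilteredColimitsOfSize.{v, v} G]
    {K : J ⥤ C} {c : Cocone K} (hc : IsColimit c) (h : ∀ j, Function.Surjective (φ.app (K.obj j))) :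
    Function.Surjective (φ.app c.pt) := by
  intro b
  obtain ⟨j, y, rfl⟩ := exists_rep (isColimitOfPreserves G hc) b
  obtain ⟨x, rfl⟩ := h j y
  exact ⟨F.map (c.ι.app j) x, NatTrans.naturality_apply φ (c.ι.app j) x⟩

open DeltaIso in
theorem isIso_of_class {C : Type u} [Category.{v} C] [Abelian C]
    {T T' : DeltaF.CohDeltaFunctor C AddCommGrpCat.{w} ℕ} (hT0 : T.ZeroMono) (hT'0 : T'.ZeroMono)
    [∀ n, PreservesFilteredColimitsOfSize.{v, v} (T.F n)] [∀ n, PreservesFilteredColimitsOfSize.{v, v} (T'.F n)]
    (φ : T ⟶ T') (D E : ObjectProperty C)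
    (hD : ∀ A : C, ∃ (J : Type v) (_ : SmallCategory J) (_ : IsFiltered J) (K : J ⥤ C) (c : Cocone K)
      (_ : IsColimit c), (∀ j, D (K.obj j)) ∧ Nonempty (c.pt ≅ A))
    (hE : ∀ A : C, D A → ∃ (M : C) (i : A ⟶ M), Mono i ∧ E M)
    (h : ∀ (q : ℕ) (M : C), E M → IsIso ((φ.app q).app M)) :
    ∀ (q : ℕ) (A : C), IsIso ((φ.app q).app A) := by
  have hb : ∀ (q : ℕ) (M : C), E M → Function.Bijective ((φ.app q).app M) := fun q M hM =>
    haveI := h q M hM; ConcreteCategory.bijective_of_isIso _
  have ext_inj : ∀ q, (∀ A, D A → Function.Injective ((φ.app q).app A)) → ∀ A, Function.Injective ((φ.app q).app A) := by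
    intro q hq A
    obtain ⟨J, _, _, K, c, hc, hK, ⟨e⟩⟩ := hD A
    have := injective_of_forall (φ.app q) hc fun j => hq _ (hK j)
    have h2 : (φ.app q).app A = (T.F q).map e.inv ≫ (φ.app q).app c.pt ≫ (T'.F q).map e.hom := by
      rw [← (φ.app q).naturality e.hom, ← Category.assoc, ← Functor.map_comp, e.inv_hom_id, CategoryTheory.Functor.map_id, Category.id_comp]
    rw [h2]
    intro a b hab
    exact (((ConcreteCategory.bijective_of_isIso ((T'.F q).map e.hom)).1.comp this).comp
      (ConcreteCategory.bijective_of_isIso ((T.F q).map e.inv)).1) hab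
  have ext_surj : ∀ q, (∀ A, D A → Function.Surjective ((φ.app q).app A)) → ∀ A, Function.Surjective ((φ.app q).app A) := by
    intro q hq A
    obtain ⟨J, _, _, K, c, hc, hK, ⟨e⟩⟩ := hD A
    have := surjective_of_forall (φ.app q) hc fun j => hq _ (hK j)
    have h2 : (φ.app q).app A = (T.F q).map e.inv ≫ (φ.app q).app c.pt ≫ (T'.F q).map e.hom := by
      rw [← (φ.app q).naturality e.hom, ← Category.assoc, ← Functor.map_comp, e.inv_hom_id, CategoryTheory.Functor.map_id, Category.id_comp]
    rw [h2]
    intro b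
    exact (((ConcreteCategory.bijective_of_isIso ((T'.F q).map e.hom)).2.comp this).comp
      (ConcreteCategory.bijective_of_isIso ((T.F q).map e.inv)).2) b
  have hbij : ∀ (q : ℕ) (A : C), Function.Bijective ((φ.app q).app A) := by
    intro q
    induction q with
    | zero =>
      have hinj := ext_inj 0 fun A hA => by
        rw [injective_iff_map_eq_zero]
        intro a ha
        obtain ⟨M, u, hu, hM⟩ := hE A hA
        haveI : Mono ((T.F 0).map u) := hT0 (ses u) (ses_shortExact u)
        refine (AddCommGrpCat.mono_iff_injective _).1 (inferInstance : Mono ((T.F 0).map u)) ?_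
        refine (hb 0 M hM).1 ?_
        rw [natural, ha, map_zero, map_zero, map_zero]
      refine fun A => ⟨hinj A, ext_surj 0 (fun A hA a' => ?_) A⟩
      obtain ⟨M, u, hu, hM⟩ := hE A hA
      have hS := ses_shortExact u
      obtain ⟨m, hm⟩ := (hb 0 M hM).2 ((T'.F 0).map u a')
      have hg : (T.F 0).map (ses u).g m = 0 := by
        refine hinj _ ?_
        rw [natural, hm, map_zero, ← ConcreteCategory.comp_apply, ← Functor.map_comp, (ses u).zero,
          Functor.map_zero]
        rfl
      obtain ⟨a, rfl⟩ := (ShortComplex.ab_exact_iff _).1 (T.exact₂ _ hS 0) m hg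
      refine ⟨a, ?_⟩
      haveI : Mono ((T'.F 0).map u) := hT'0 (ses u) hS
      exact (AddCommGrpCat.mono_iff_injective _).1 (inferInstance : Mono ((T'.F 0).map u))
        ((natural φ u a).symm.trans hm)
    | succ q ih =>
      have hinj := ext_inj (q + 1) fun A hA => by
        rw [injective_iff_map_eq_zero]
        intro a ha
        obtain ⟨M, u, hu, hM⟩ := hE A hA
        have hS := ses_shortExact u
        have hua : (T.F (q + 1)).map u a = 0 := (hb (q + 1) M hM).1 (by rw [natural, ha, map_zero, map_zero])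
        obtain ⟨x, rfl⟩ := exists_delta hS a hua
        replace ha := (comm φ hS q x).symm.trans ha
        obtain ⟨m', hm'⟩ := (ShortComplex.ab_exact_iff _).1 (T'.exact₃ _ hS q (q + 1) rfl) _ ha
        obtain ⟨m, rfl⟩ := (ih M).2 m'
        rw [show x = (T.F q).map (ses u).g m from (ih _).1 (((natural φ _ m).trans hm').symm)]
        exact ConcreteCategory.congr_hom (T.comp_δ _ hS q (q + 1) rfl) m
      refine fun A => ⟨hinj A, ext_surj (q + 1) (fun A hA a' => ?_) A⟩
      obtain ⟨M, u, hu, hM⟩ := hE A hA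
      have hS := ses_shortExact u
      obtain ⟨m, hm⟩ := (hb (q + 1) M hM).2 ((T'.F (q + 1)).map u a')
      have hg : (T.F (q + 1)).map (ses u).g m = 0 := by
        refine hinj _ ?_
        rw [natural, hm, map_zero, ← ConcreteCategory.comp_apply, ← Functor.map_comp, (ses u).zero,
          Functor.map_zero]
        rfl
      obtain ⟨a, rfl⟩ := (ShortComplex.ab_exact_iff _).1 (T.exact₂ _ hS (q + 1)) m hg
      have hd : (T'.F (q + 1)).map (ses u).f (a' - (φ.app (q + 1)).app A a) = 0 := by
        rw [map_sub, ← natural]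
        exact sub_eq_zero.2 hm.symm
      obtain ⟨x', hx'⟩ := exists_delta hS _ hd
      obtain ⟨x, rfl⟩ := (ih _).2 x'
      replace hx' := (comm φ hS q x).trans hx'
      exact ⟨a + T.δ _ hS q (q + 1) rfl x, by rw [map_add]; erw [hx']; exact add_sub_cancel _ _⟩
  exact fun q A => (ConcreteCategory.isIso_iff_bijective _).2 (hbij q A)

end Groth.Agent.H18Ext.DeltaColimit
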