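import Groth.Prelude.Def_DeltaF
import Mathlib.Algebra.Category.Grp.EpiMono
import Mathlib.Algebra.Category.Grp.Abelian
import Mathlib.Algebra.Homology.ShortComplex.Ab

/-!
# Criteria for morphisms of delta-functors to be bijective
-/

set_option autoImplicit false

universe w v u

open CategoryTheory CategoryTheory.Limits

namespace Groth.Agent.H18Ext.DeltaIso

variable {C : Type u} [Category.{v} C] [Abelian C]
  {T T' : DeltaF.CohDeltaFunctor C AddCommGrpCat.{w} ℕ} (φ : T ⟶ T')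

theorem natural {q : ℕ} {A B : C} (u : A ⟶ B) (a : (T.F q).obj A) :
    (φ.app q).app B ((T.F q).map u a) = (T'.F q).map u ((φ.app q).app A a) :=
  NatTrans.naturality_apply (φ.app q) u a

/-- The short exact sequence of a monomorphism. -/
noncomputable abbrev ses {A M : C} (u : A ⟶ M) : ShortComplex C :=
  ShortComplex.mk u (cokernel.π u) (cokernel.condition u)

theorem ses_shortExact {A M : C} (u : A ⟶ M) [Mono u] : (ses u).ShortExact :=
  ShortComplex.ShortExact.mk' (ShortComplex.exact_of_g_is_cokernel _ (cokernelIsCokernel u))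
    inferInstance inferInstance

theorem exists_delta {F : DeltaF.CohDeltaFunctor C AddCommGrpCat.{w} ℕ} {S : ShortComplex C} (hS : S.ShortExact)
    {q : ℕ} (a : (F.F (q + 1)).obj S.X₁) (ha : (F.F (q + 1)).map S.f a = 0) :
    ∃ x, F.δ S hS q (q + 1) rfl x = a :=
  (ShortComplex.ab_exact_iff _).1 (F.exact₁ S hS q (q + 1) rfl) a ha

theorem comm {S : ShortComplex C} (hS : S.ShortExact) (q : ℕ) (x : (T.F q).obj S.X₃) :
    (φ.app (q + 1)).app S.X₁ (T.δ S hS q (q + 1) rfl x) = T'.δ S hS q (q + 1) rfl ((φ.app q).app S.X₃ x) := by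
  rw [← ConcreteCategory.comp_apply, ← ConcreteCategory.comp_apply, φ.comm]

theorem injective_succ (hT : ∀ (q : ℕ) (A : C) (α : (T.F (q + 1)).obj A),
      ∃ (M : C) (u : A ⟶ M), Mono u ∧ (T.F (q + 1)).map u α = 0)
    {q : ℕ} (h : ∀ A, Function.Bijective ((φ.app q).app A)) (A : C) :
    Function.Injective ((φ.app (q + 1)).app A) := by
  rw [injective_iff_map_eq_zero]
  intro a ha
  obtain ⟨M, u, hu, hua⟩ := hT q A a
  have hS := ses_shortExact u
  obtain ⟨x, rfl⟩ := exists_delta hS a hua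
  replace ha := (comm φ hS q x).symm.trans ha
  obtain ⟨m', hm'⟩ := (ShortComplex.ab_exact_iff _).1 (T'.exact₃ _ hS q (q + 1) rfl) _ ha
  obtain ⟨m, rfl⟩ := (h M).2 m'
  have : x = (T.F q).map (ses u).g m := (h _).1 (((natural φ _ m).trans hm').symm)
  rw [this]
  exact ConcreteCategory.congr_hom (T.comp_δ _ hS q (q + 1) rfl) m

theorem bijective_zero (hT0 : T.ZeroMono) (hT'0 : T'.ZeroMono) (E : ObjectProperty C)
    (hE : ∀ A : C, ∃ (M : C) (i : A ⟶ M), Mono i ∧ E M)
    (h : ∀ M, E M → Function.Bijective ((φ.app 0).app M)) (A : C) :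
    Function.Bijective ((φ.app 0).app A) := by
  have hinj : ∀ A, Function.Injective ((φ.app 0).app A) := fun A => by
    rw [injective_iff_map_eq_zero]
    intro a ha
    obtain ⟨M, u, hu, hM⟩ := hE A
    haveI : Mono ((T.F 0).map u) := hT0 (ses u) (ses_shortExact u)
    refine (AddCommGrpCat.mono_iff_injective _).1 (inferInstance : Mono ((T.F 0).map u)) ?_
    refine (h M hM).1 ?_
    rw [natural, ha, map_zero, map_zero, map_zero]
  refine ⟨hinj A, fun a' => ?_⟩
  obtain ⟨M, u, hu, hM⟩ := hE A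
  have hS := ses_shortExact u
  obtain ⟨m, hm⟩ := (h M hM).2 ((T'.F 0).map u a')
  have hg : (T.F 0).map (ses u).g m = 0 := by
    refine hinj _ ?_
    rw [natural, hm, map_zero, ← ConcreteCategory.comp_apply, ← Functor.map_comp, (ses u).zero,
      Functor.map_zero]
    rfl
  obtain ⟨a, rfl⟩ := (ShortComplex.ab_exact_iff _).1 (T.exact₂ _ hS 0) m hg
  refine ⟨a, ?_⟩
  haveI : Mono ((T'.F 0).map u) := hT'0 (ses u) (ses_shortExact u)
  exact (AddCommGrpCat.mono_iff_injective _).1 (inferInstance : Mono ((T'.F 0).map u))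
    ((natural φ u a).symm.trans hm)

theorem bijective_all (hT : ∀ (q : ℕ) (A : C) (α : (T.F (q + 1)).obj A),
      ∃ (M : C) (u : A ⟶ M), Mono u ∧ (T.F (q + 1)).map u α = 0)
    (h0 : ∀ A, Function.Bijective ((φ.app 0).app A))
    (hs : ∀ (q : ℕ) (A : C) (a' : (T'.F (q + 1)).obj A), ∃ (M : C) (u : A ⟶ M) (m : (T.F (q + 1)).obj M),
      Mono u ∧ (φ.app (q + 1)).app M m = (T'.F (q + 1)).map u a') :
    ∀ (q : ℕ) (A : C), Function.Bijective ((φ.app q).app A) := by
  intro q
  induction q with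
  | zero => exact h0
  | succ q ih =>
    have hinj := injective_succ φ hT ih
    refine fun A => ⟨hinj A, fun a' => ?_⟩
    obtain ⟨M, u, m, hu, hm⟩ := hs q A a'
    have hS := ses_shortExact u
    have hg : (T.F (q + 1)).map (ses u).g m = 0 := by
      refine hinj _ ?_
      rw [natural, hm, map_zero, ← ConcreteCategory.comp_apply, ← Functor.map_comp, (ses u).zero,
        Functor.map_zero]
      rfl
    obtain ⟨a, rfl⟩ := (ShortComplex.ab_exact_iff _).1 (T.exact₂ _ hS (q + 1)) m hg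
    have hd : (T'.F (q + 1)).map (ses u).f (a' - (φ.app (q + 1)).app A a) = 0 := by
      rw [map_sub, ← natural]
      exact sub_eq_zero.2 hm.symm
    obtain ⟨x', hx'⟩ := exists_delta hS _ hd
    obtain ⟨x, rfl⟩ := (ih _).2 x'
    replace hx' := (comm φ hS q x).trans hx'
    exact ⟨a + T.δ _ hS q (q + 1) rfl x, by rw [map_add]; erw [hx']; exact add_sub_cancel _ _⟩

theorem iff_effaceable (hT : ∀ (q : ℕ) (A : C) (α : (T.F (q + 1)).obj A),
      ∃ (M : C) (u : A ⟶ M), Mono u ∧ (T.F (q + 1)).map u α = 0) :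
    (∀ (q : ℕ) (A : C), IsIso ((φ.app q).app A)) ↔
      ((∀ A : C, IsIso ((φ.app 0).app A)) ∧
        ∀ (q : ℕ) (A : C) (α : (T'.F (q + 1)).obj A),
          ∃ (M : C) (u : A ⟶ M), Mono u ∧ (T'.F (q + 1)).map u α = 0) := by
  refine ⟨fun h => ⟨h 0, fun q A α => ?_⟩, fun ⟨h0, h'⟩ => ?_⟩
  · haveI := h (q + 1) A
    obtain ⟨a, rfl⟩ := (ConcreteCategory.bijective_of_isIso ((φ.app (q + 1)).app A)).2 α
    obtain ⟨M, u, hu, hua⟩ := hT q A a
    exact ⟨M, u, hu, by rw [← natural, hua, map_zero]⟩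
  · have := bijective_all φ hT (fun A => haveI := h0 A; ConcreteCategory.bijective_of_isIso _)
      fun q A a' => by
        obtain ⟨M, u, hu, hua⟩ := h' q A a'
        exact ⟨M, u, 0, hu, by rw [hua, map_zero]⟩
    exact fun q A => (ConcreteCategory.isIso_iff_bijective _).2 (this q A)

theorem iff_class (hT0 : T.ZeroMono) (hT'0 : T'.ZeroMono)
    (hT : ∀ (q : ℕ) (A : C) (α : (T.F (q + 1)).obj A),
      ∃ (M : C) (u : A ⟶ M), Mono u ∧ (T.F (q + 1)).map u α = 0)
    (E : ObjectProperty C) (hE : ∀ A : C, ∃ (M : C) (i : A ⟶ M), Mono i ∧ E M) :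
    (∀ (q : ℕ) (A : C), IsIso ((φ.app q).app A)) ↔
      ((∀ M : C, E M → IsIso ((φ.app 0).app M)) ∧
        ∀ (q : ℕ) (M : C), E M → Epi ((φ.app (q + 1)).app M)) := by
  refine ⟨fun h => ⟨fun M _ => h 0 M, fun q M _ => haveI := h (q + 1) M; inferInstance⟩, fun ⟨h0, hs⟩ => ?_⟩
  have := bijective_all φ hT (bijective_zero φ hT0 hT'0 E hE
      fun M hM => haveI := h0 M hM; ConcreteCategory.bijective_of_isIso _) fun q A a' => by
    obtain ⟨M, u, hu, hM⟩ := hE A
    obtain ⟨m, hm⟩ := (AddCommGrpCat.epi_iff_surjective _).1 (hs q M hM) ((T'.F (q + 1)).map u a')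
    exact ⟨M, u, m, hu, hm⟩
  exact fun q A => (ConcreteCategory.isIso_iff_bijective _).2 (this q A)

end Groth.Agent.H18Ext.DeltaIso
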