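import Groth.Prelude.Def_EtBC2
import Groth.Prelude.Def_RDer

/-!
# The first edge map when higher direct images vanish
-/

set_option autoImplicit false

universe v₁ v₂ v₃ u₁ u₂ u₃

open CategoryTheory CategoryTheory.Limits

namespace Groth.Agent.H18Ext.EdgeIso

set_option backward.isDefEq.respectTransparency false

variable {A : Type u₁} [Category.{v₁} A] [Abelian A] [HasInjectiveResolutions A]
  {B : Type u₂} [Category.{v₂} B] [Abelian B] [HasInjectiveResolutions B]
  {C : Type u₃} [Category.{v₃} C] [Abelian C]
  (Φ : A ⥤ B) [Φ.Additive] [Φ.PreservesInjectiveObjects] [PreservesFiniteLimits Φ]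

theorem quasiIso_mapAug {X : A} (I : InjectiveResolution X)
    (h : ∀ q : ℕ, 0 < q → IsZero ((Φ.rightDerived q).obj X)) : QuasiIso (RDer.mapAug Φ I.ι) := by
  refine ⟨fun n => ?_⟩
  cases n with
  | zero =>
    rw [CochainComplex.quasiIsoAt₀_iff, ShortComplex.quasiIso_iff_of_zeros]
    · have hm : Mono (I.ι.f 0) := inferInstance
      refine (ShortComplex.exact_and_mono_f_iff_of_iso ?_).2
        ⟨I.exact₀.map_of_mono_of_preservesKernel Φ hm inferInstance, inferInstanceAs (Mono (Φ.map (I.ι.f 0)))⟩
      refine ShortComplex.isoMk (Iso.refl _) (Iso.refl _) (Iso.refl _) ?_ ?_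
      · simp [RDer.mapAug]
        exact (Category.id_comp _).symm
      · simp
    all_goals simp
  | succ n =>
    rw [quasiIsoAt_iff_exactAt]
    · exact (HomologicalComplex.exactAt_iff_isZero_homology _ _).2
        ((h (n + 1) n.succ_pos).of_iso (I.isoRightDerivedObj Φ (n + 1)).symm)
    · exact CochainComplex.exactAt_succ_single_obj _ _

theorem isIso_edgeIn (Ψ : B ⥤ C) [Ψ.Additive] (q : ℕ) (X : A)
    (h : ∀ q : ℕ, 0 < q → IsZero ((Φ.rightDerived q).obj X)) : IsIso (RDer.edgeIn Φ Ψ q X) := by
  let K : InjectiveResolution (Φ.obj X) :=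
    { cocomplex := (Φ.mapHomologicalComplex _).obj (CategoryTheory.injectiveResolution X).cocomplex
      injective := fun n => inferInstance
      ι := RDer.mapAug Φ (CategoryTheory.injectiveResolution X).ι
      quasiIso := quasiIso_mapAug Φ _ h }
  let E := InjectiveResolution.homotopyEquiv (CategoryTheory.injectiveResolution (Φ.obj X)) K
  let d : (CategoryTheory.injectiveResolution (Φ.obj X)).cocomplex ⟶ K.cocomplex :=
    RDer.descToInjectives (𝟙 (Φ.obj X)) (CategoryTheory.injectiveResolution (Φ.obj X)).cocomplex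
      (CategoryTheory.injectiveResolution (Φ.obj X)).ι
      ((Φ.mapHomologicalComplex _).obj (CategoryTheory.injectiveResolution X).cocomplex)
      (RDer.mapAug Φ (CategoryTheory.injectiveResolution X).ι)
  have hd : (CategoryTheory.injectiveResolution (Φ.obj X)).ι ≫ d = (CochainComplex.single₀ B).map (𝟙 (Φ.obj X)) ≫ K.ι := by
    refine HomologicalComplex.from_single_hom_ext ?_
    rw [HomologicalComplex.comp_f, HomologicalComplex.comp_f, RDer.ι_descToInjectives_f_zero]
    simp [K]
  have ho : Homotopy d E.hom := InjectiveResolution.descHomotopy (𝟙 _) d E.hom hd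
    (InjectiveResolution.desc_commutes _ _ _)
  haveI : IsIso ((HomologicalComplex.homologyFunctor C _ q).map ((Ψ.mapHomologicalComplex _).map d)) := by
    have e := (Ψ.mapHomotopy ho).homologyMap_eq q
    show IsIso (HomologicalComplex.homologyMap ((Ψ.mapHomologicalComplex _).map d) q)
    rw [e]
    exact inferInstanceAs (IsIso ((Ψ.mapHomotopyEquiv E).toHomologyIso q).hom)
  show IsIso (_ ≫ (HomologicalComplex.homologyFunctor C _ q).map ((Ψ.mapHomologicalComplex _).map d) ≫ _)
  exact inferInstance

end Groth.Agent.H18Ext.EdgeIso
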