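import Mathlib.Algebra.Homology.DerivedCategory.Ext.ExactSequences

/-!
# The Mayer-Vietoris sequence of a short exact sequence with biproduct middle term
-/

set_option autoImplicit false

open CategoryTheory CategoryTheory.Limits Abelian

namespace Groth.Agent.H18Ext

universe w v u w₁ w₂ w₃

variable {C : Type u} [Category.{v} C] [Abelian C] [HasExt.{w} C]

theorem mayerVietoris {A B W E F : C} (f₁ : W ⟶ A) (f₂ : W ⟶ B) (g₁ : A ⟶ E) (g₂ : B ⟶ E)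
    (hw : biprod.lift f₁ (-f₂) ≫ biprod.desc g₁ g₂ = 0)
    (hS : (ShortComplex.mk _ _ hw).ShortExact)
    {M₁ : ℕ → Type w₁} {M₂ : ℕ → Type w₂} {M₃ : ℕ → Type w₃}
    [∀ n, AddCommGroup (M₁ n)] [∀ n, AddCommGroup (M₂ n)] [∀ n, AddCommGroup (M₃ n)]
    (P : ∀ n, Ext A F n →+ M₁ n) (hP : ∀ n, Function.Bijective (P n))
    (Q : ∀ n, Ext B F n →+ M₂ n) (hQ : ∀ n, Function.Bijective (Q n))
    (R : ∀ n, Ext W F n →+ M₃ n) (hR : ∀ n, Function.Bijective (R n))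
    (r₁ : ∀ n, Ext E F n →+ M₁ n) (r₂ : ∀ n, Ext E F n →+ M₂ n)
    (hr₁ : ∀ n x, r₁ n x = P n ((Ext.mk₀ g₁).comp x (zero_add n)))
    (hr₂ : ∀ n x, r₂ n x = Q n ((Ext.mk₀ g₂).comp x (zero_add n)))
    (v₁ : ∀ n, M₁ n →+ M₃ n) (v₂ : ∀ n, M₂ n →+ M₃ n)
    (hv₁ : ∀ n a, v₁ n (P n a) = R n ((Ext.mk₀ f₁).comp a (zero_add n)))
    (hv₂ : ∀ n b, v₂ n (Q n b) = R n ((Ext.mk₀ f₂).comp b (zero_add n))) :
    ∃ δ : ∀ n : ℕ, M₃ n →+ Ext E F (n + 1),
      ((r₁ 0).prod (r₂ 0)).ker = ⊥ ∧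
      (∀ n : ℕ, ((r₁ (n + 1)).prod (r₂ (n + 1))).ker = (δ n).range) ∧
      (∀ n : ℕ, ((v₁ n).comp (AddMonoidHom.fst (M₁ n) (M₂ n)) - (v₂ n).comp (AddMonoidHom.snd (M₁ n) (M₂ n))).ker =
        ((r₁ n).prod (r₂ n)).range) ∧
      (∀ n : ℕ, (δ n).ker = ((v₁ n).comp (AddMonoidHom.fst (M₁ n) (M₂ n)) - (v₂ n).comp (AddMonoidHom.snd (M₁ n) (M₂ n))).range) := by
  let eR := fun n => AddEquiv.ofBijective (R n) (hR n)
  let y' : ∀ {n}, Ext A F n → Ext B F n → Ext (A ⊞ B) F n := fun a b =>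
    (Ext.mk₀ (biprod.fst : A ⊞ B ⟶ A)).comp a (zero_add _) + (Ext.mk₀ (biprod.snd : A ⊞ B ⟶ B)).comp b (zero_add _)
  have hinl : ∀ {n} (a : Ext A F n) (b : Ext B F n), (Ext.mk₀ biprod.inl).comp (y' a b) (zero_add _) = a :=
    fun a b => by simp [y']
  have hinr : ∀ {n} (a : Ext A F n) (b : Ext B F n), (Ext.mk₀ biprod.inr).comp (y' a b) (zero_add _) = b :=
    fun a b => by simp [y']
  have hg : ∀ {n} (x : Ext E F n), (Ext.mk₀ (biprod.desc g₁ g₂)).comp x (zero_add _) =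
      y' ((Ext.mk₀ g₁).comp x (zero_add _)) ((Ext.mk₀ g₂).comp x (zero_add _)) := fun x => by
    rw [biprod.desc_eq, Ext.mk₀_add, Ext.add_comp]
    simp [y']
  have hf : ∀ {n} (a : Ext A F n) (b : Ext B F n), (Ext.mk₀ (biprod.lift f₁ (-f₂))).comp (y' a b) (zero_add _) =
      (Ext.mk₀ f₁).comp a (zero_add _) - (Ext.mk₀ f₂).comp b (zero_add _) := fun a b => by
    rw [biprod.lift_eq, Ext.mk₀_add, Ext.add_comp, ← Ext.mk₀_comp_mk₀_assoc, ← Ext.mk₀_comp_mk₀_assoc, hinl, hinr,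
      Ext.mk₀_neg, Ext.neg_comp, sub_eq_add_neg]
  have hr : ∀ n (x : Ext E F n), (r₁ n).prod (r₂ n) x = 0 ↔
      (Ext.mk₀ (biprod.desc g₁ g₂)).comp x (zero_add _) = 0 := by
    intro n x
    rw [AddMonoidHom.prod_apply, Prod.mk_eq_zero, hr₁, hr₂, map_eq_zero_iff _ (hP n).1, map_eq_zero_iff _ (hQ n).1]
    constructor
    · rintro ⟨h1, h2⟩; simp [hg, h1, h2, y']
    · intro h; rw [hg] at h; constructor
      · rw [← hinl ((Ext.mk₀ g₁).comp x (zero_add _)) ((Ext.mk₀ g₂).comp x (zero_add _)), h, Ext.comp_zero]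
      · rw [← hinr ((Ext.mk₀ g₁).comp x (zero_add _)) ((Ext.mk₀ g₂).comp x (zero_add _)), h, Ext.comp_zero]
  have hd : ∀ n (a : Ext A F n) (b : Ext B F n),
      ((v₁ n).comp (AddMonoidHom.fst (M₁ n) (M₂ n)) - (v₂ n).comp (AddMonoidHom.snd (M₁ n) (M₂ n))) (P n a, Q n b) =
        R n ((Ext.mk₀ (biprod.lift f₁ (-f₂))).comp (y' a b) (zero_add _)) := by
    intro n a b
    simp [hf, hv₁, hv₂]
  refine ⟨fun n => (hS.extClass.precomp F (Nat.add_comm 1 n)).comp (eR n).symm.toAddMonoidHom, ?_, ?_, ?_, ?_⟩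
  · rw [AddSubgroup.eq_bot_iff_forall]
    intro x hx
    haveI : Epi (biprod.desc g₁ g₂) := hS.epi_g
    exact Ext.precomp_mk₀_injective_of_epi F (biprod.desc g₁ g₂) (((hr 0 x).1 hx).trans (map_zero _).symm)
  · intro n
    ext x
    rw [AddMonoidHom.mem_ker, hr, AddMonoidHom.mem_range]
    constructor
    · intro h
      obtain ⟨c, hc⟩ := Ext.contravariant_sequence_exact₃ hS F x h (Nat.add_comm 1 n)
      refine ⟨R n c, ?_⟩
      show hS.extClass.comp ((eR n).symm (R n c)) (Nat.add_comm 1 n) = x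
      erw [(eR n).symm_apply_apply]
      exact hc
    · rintro ⟨c, rfl⟩
      exact hS.comp_extClass_assoc _ (Nat.add_comm 1 n)
  · intro n
    ext ⟨p, q⟩
    obtain ⟨a, rfl⟩ := (hP n).2 p
    obtain ⟨b, rfl⟩ := (hQ n).2 q
    rw [AddMonoidHom.mem_ker, hd, map_eq_zero_iff _ (hR n).1, AddMonoidHom.mem_range]
    constructor
    · intro h
      obtain ⟨x, hx⟩ := Ext.contravariant_sequence_exact₂ hS F (y' a b) h
      refine ⟨x, ?_⟩
      have h1 := congrArg (fun t => (Ext.mk₀ (biprod.inl : A ⟶ A ⊞ B)).comp t (zero_add n)) hx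
      have h2 := congrArg (fun t => (Ext.mk₀ (biprod.inr : B ⟶ A ⊞ B)).comp t (zero_add n)) hx
      simp only [hinl, hinr, Ext.mk₀_comp_mk₀_assoc, biprod.inl_desc, biprod.inr_desc] at h1 h2
      rw [AddMonoidHom.prod_apply, hr₁, hr₂, h1, h2]
    · rintro ⟨x, hx⟩
      rw [AddMonoidHom.prod_apply, hr₁, hr₂, Prod.mk.injEq] at hx
      rw [← (hP n).1 hx.1, ← (hQ n).1 hx.2, ← hg, Ext.mk₀_comp_mk₀_assoc, hw, Ext.mk₀_zero, Ext.zero_comp]
  · intro n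
    ext z
    obtain ⟨c, rfl⟩ := (hR n).2 z
    rw [AddMonoidHom.mem_ker, AddMonoidHom.mem_range]
    have hc : (eR n).symm (R n c) = c := (eR n).symm_apply_apply c
    constructor
    · intro h
      obtain ⟨y, hy⟩ := Ext.contravariant_sequence_exact₁ hS F c (Nat.add_comm 1 n)
        (by simpa [hc, Ext.bilinearComp] using h)
      refine ⟨(P n ((Ext.mk₀ biprod.inl).comp y (zero_add _)), Q n ((Ext.mk₀ biprod.inr).comp y (zero_add _))), ?_⟩
      rw [hd, ← hy]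
      congr 2
      simp only [y']
      rw [Ext.mk₀_comp_mk₀_assoc, Ext.mk₀_comp_mk₀_assoc, ← Ext.add_comp, ← Ext.mk₀_add, biprod.total, Ext.mk₀_id_comp]
    · rintro ⟨⟨p, q⟩, h⟩
      obtain ⟨a, rfl⟩ := (hP n).2 p
      obtain ⟨b, rfl⟩ := (hQ n).2 q
      rw [hd] at h
      simp only [← (hR n).1 h]
      show hS.extClass.comp ((eR n).symm (R n _)) (Nat.add_comm 1 n) = 0
      erw [(eR n).symm_apply_apply]
      exact hS.extClass_comp_assoc _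

end Groth.Agent.H18Ext
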